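import Groth.Agent.L05.Kaehler.Tower
import Mathlib.LinearAlgebra.Charpoly.BaseChange
import Mathlib.RingTheory.Ideal.KrullsHeightTheorem
import Mathlib.RingTheory.Etale.Locus
import Mathlib.RingTheory.Smooth.Flat
import Mathlib.RingTheory.Flat.Stability
import Mathlib.RingTheory.LocalRing.Module
import Mathlib.RingTheory.FinitePresentation

/-!
# A map of smooth algebras which is étale in codimension one of the base is étale
-/

set_option autoImplicit false
set_option backward.isDefEq.respectTransparency false
set_option linter.style.haveILetI false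

universe u

open TensorProduct KaehlerDifferential

namespace Groth.L04.EtalePurity

variable {R B C : Type u} [CommRing R] [CommRing B] [CommRing C]
variable [Algebra R B] [Algebra R C] [Algebra B C] [IsScalarTower R B C]

/-- localising `mapBaseChange` gives `mapBaseChange` of the localisation -/
lemma bijective_baseChange_of_formallyEtale [Algebra.FormallySmooth R C]
    (T : Type u) [CommRing T] [Algebra C T] [Algebra R T] [Algebra B T]
    [IsScalarTower R C T] [IsScalarTower B C T] [IsScalarTower R B T]
    [Algebra.FormallyEtale C T] [Algebra.FormallyEtale B T] :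
    Function.Bijective ((mapBaseChange R B C).baseChange T) := by
  let e1 := AlgebraTensorModule.cancelBaseChange B C T T Ω[B⁄R]
  let e2 := tensorKaehlerEquivOfFormallyEtale R C T
  let e3 := tensorKaehlerEquivOfFormallyEtale R B T
  have h : ∀ z, e2 ((mapBaseChange R B C).baseChange T z) = e3 (e1 z) := by
    intro z
    induction z using TensorProduct.induction_on with
    | zero => simp
    | add a b ha hb => simp only [map_add, ha, hb]
    | tmul t w =>
      induction w using TensorProduct.induction_on with
      | zero => simp
      | add a b ha hb => simp only [TensorProduct.tmul_add, map_add, ha, hb]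
      | tmul c w =>
        simp only [e1, e2, e3, LinearMap.baseChange_tmul, mapBaseChange_tmul,
          AlgebraTensorModule.cancelBaseChange_tmul, tensorKaehlerEquivOfFormallyEtale_apply]
        rw [map_smul, smul_comm t c, ← smul_assoc]
        congr 1
        change ((KaehlerDifferential.map R R C T).restrictScalars B).comp (KaehlerDifferential.map R R B C) w =
          KaehlerDifferential.map R R B T w
        congr 1
        refine Derivation.liftKaehlerDifferential_unique _ _ (Derivation.ext fun b => ?_)
        simp [← IsScalarTower.algebraMap_apply]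
  have hb : Function.Bijective (fun z => e3 (e1 z)) := e3.bijective.comp e1.bijective
  rw [← funext h] at hb
  exact ⟨hb.1.of_comp, fun y => by
    obtain ⟨x, hx⟩ := hb.2 (e2 y)
    exact ⟨x, e2.injective hx⟩⟩

/-- the local case -/
theorem formallyEtale_of_local [IsNoetherianRing R] [IsNoetherianRing C] [IsLocalRing C] [Module.Flat R C]
    [Algebra.FormallySmooth R B] [Algebra.EssFiniteType R B] [Algebra.FormallySmooth R C] [Algebra.EssFiniteType R C]
    (h : ∀ (P : Ideal C) [P.IsPrime], (P.comap (algebraMap R C)).height ≤ 1 →
      Algebra.FormallyEtale B (Localization.AtPrime P)) :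
    Algebra.FormallyEtale B C := by
  refine Groth.L05.Kaehler.formallyEtale_of_bijective R B C ?_
  haveI : Module.Free C (C ⊗[B] Ω[B⁄R]) := Module.free_of_flat_of_isLocalRing
  haveI : Module.Free C Ω[C⁄R] := Module.free_of_flat_of_isLocalRing
  set φ := mapBaseChange R B C
  have hgd : ∀ (P : Ideal C) [P.IsPrime], (P.comap (algebraMap R C)).height ≤ P.height := fun P _ => by
    haveI : P.LiesOver (P.comap (algebraMap R C)) := ⟨rfl⟩
    rw [Ideal.height_eq_height_add_of_liesOver_of_hasGoingDown (P.comap (algebraMap R C)) P]
    exact le_self_add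
  have hbij : ∀ (P : Ideal C) [P.IsPrime], P.height ≤ 1 →
      Function.Bijective (φ.baseChange (Localization.AtPrime P)) := fun P _ hP => by
    haveI := h P ((hgd P).trans hP)
    haveI : Algebra.FormallyEtale C (Localization.AtPrime P) :=
      Algebra.FormallyEtale.of_isLocalization P.primeCompl
    exact bijective_baseChange_of_formallyEtale (R := R) (B := B) (C := C) (Localization.AtPrime P)
  have hrank : Module.finrank C (C ⊗[B] Ω[B⁄R]) = Module.finrank C Ω[C⁄R] := by
    obtain ⟨P, hP, -⟩ := Ideal.exists_minimalPrimes_le (I := (⊥ : Ideal C)) (J := IsLocalRing.maximalIdeal C) bot_le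
    haveI := hP.1.1
    have h0 : P.height ≤ 1 := Ideal.height_le_one_of_isPrincipal_of_mem_minimalPrimes ⊥ P hP
    have e := LinearEquiv.ofBijective _ (hbij P h0)
    have e' := e.finrank_eq
    rwa [Module.finrank_baseChange (S := C) (M' := C ⊗[B] Ω[B⁄R]),
      Module.finrank_baseChange (S := C) (M' := Ω[C⁄R])] at e'
  obtain e : Ω[C⁄R] ≃ₗ[C] C ⊗[B] Ω[B⁄R] := LinearEquiv.ofFinrankEq _ _ hrank.symm
  set ψ : (C ⊗[B] Ω[B⁄R]) →ₗ[C] (C ⊗[B] Ω[B⁄R]) := e.toLinearMap ∘ₗ φ
  suffices hu : IsUnit (LinearMap.det ψ) by
    have hψ : Function.Bijective ψ := (Module.End.isUnit_iff ψ).1 ((LinearMap.isUnit_iff_isUnit_det ψ).2 hu)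
    have : (φ : C ⊗[B] Ω[B⁄R] → Ω[C⁄R]) = e.symm ∘ ψ := funext fun x => (e.symm_apply_apply _).symm
    rw [this]
    exact e.symm.bijective.comp hψ
  by_contra hu
  obtain ⟨P, hP, -⟩ := Ideal.exists_minimalPrimes_le
    (I := Ideal.span {LinearMap.det ψ}) (J := IsLocalRing.maximalIdeal C)
    ((Ideal.span_singleton_le_iff_mem _).2 ((IsLocalRing.mem_maximalIdeal _).2 hu))
  haveI := hP.1.1
  have h1 : P.height ≤ 1 := Ideal.height_le_one_of_isPrincipal_of_mem_minimalPrimes _ P hP
  have hbψ : Function.Bijective (ψ.baseChange (Localization.AtPrime P)) := by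
    rw [show ψ.baseChange (Localization.AtPrime P) =
      e.toLinearMap.baseChange (Localization.AtPrime P) ∘ₗ φ.baseChange (Localization.AtPrime P) from
        LinearMap.baseChange_comp (A := Localization.AtPrime P) φ e.toLinearMap]
    exact (e.baseChange C (Localization.AtPrime P) _ _).bijective.comp (hbij P h1)
  have hunit : IsUnit (algebraMap C (Localization.AtPrime P) (LinearMap.det ψ)) := by
    rw [← LinearMap.det_baseChange]
    exact (LinearMap.isUnit_iff_isUnit_det _).1 ((Module.End.isUnit_iff _).2 hbψ)
  exact (IsLocalization.AtPrime.isUnit_to_map_iff (Localization.AtPrime P) P _).1 hunit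
    (hP.1.2 (Ideal.mem_span_singleton_self _))

/-- A map of smooth algebras over a Noetherian ring which is étale at all primes lying over primes
of height `≤ 1` is étale. -/
theorem formallyEtale [IsNoetherianRing R] [Algebra.Smooth R B] [Algebra.Smooth R C]
    (h : ∀ (P : Ideal C) [P.IsPrime], (P.comap (algebraMap R C)).height ≤ 1 → Algebra.IsEtaleAt B P) :
    Algebra.FormallyEtale B C := by
  haveI : IsNoetherianRing C := Algebra.FiniteType.isNoetherianRing R C
  rw [← Algebra.etaleLocus_eq_univ_iff]
  refine Set.eq_univ_of_forall fun Q => ?_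
  rw [Algebra.mem_etaleLocus_iff]
  haveI : Module.Flat R C := inferInstance
  haveI : Module.Flat C (Localization.AtPrime Q.asIdeal) := IsLocalization.flat _ Q.asIdeal.primeCompl
  haveI : Module.Flat R (Localization.AtPrime Q.asIdeal) := Module.Flat.trans R C _
  haveI : Algebra.FormallySmooth C (Localization.AtPrime Q.asIdeal) :=
    Algebra.FormallySmooth.of_isLocalization Q.asIdeal.primeCompl
  haveI : Algebra.FormallySmooth R (Localization.AtPrime Q.asIdeal) :=
    Algebra.FormallySmooth.comp R C (Localization.AtPrime Q.asIdeal)
  haveI : Algebra.EssFiniteType R (Localization.AtPrime Q.asIdeal) := by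
    haveI : Algebra.EssFiniteType C (Localization.AtPrime Q.asIdeal) :=
      Algebra.EssFiniteType.of_isLocalization _ Q.asIdeal.primeCompl
    exact Algebra.EssFiniteType.comp R C _
  refine formallyEtale_of_local (R := R) (B := B) fun P _ hP => ?_
  let P₀ := P.comap (algebraMap C (Localization.AtPrime Q.asIdeal))
  have hP0 : (P₀.comap (algebraMap R C)).height ≤ 1 := by
    rwa [Ideal.comap_comap, ← IsScalarTower.algebraMap_eq]
  haveI := h P₀ hP0
  haveI : IsLocalization.AtPrime (Localization.AtPrime P) P₀ :=
    IsLocalization.isLocalization_isLocalization_atPrime_isLocalization Q.asIdeal.primeCompl _ P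
  exact Algebra.FormallyEtale.of_equiv
    ((IsLocalization.algEquiv P₀.primeCompl (Localization.AtPrime P₀) (Localization.AtPrime P)).restrictScalars B)

end Groth.L04.EtalePurity
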