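import Groth.Agent.L04.EtalePurity.Alg
import Mathlib.AlgebraicGeometry.Morphisms.Etale
import Mathlib.AlgebraicGeometry.Morphisms.Smooth
import Mathlib.AlgebraicGeometry.Noetherian
import Mathlib.CategoryTheory.Comma.Over.Pullback

/-!
# A morphism of smooth schemes over `S` which is étale over an open with complement of codimension
at least two is étale
-/

set_option autoImplicit false
set_option linter.style.haveILetI false

universe u

open CategoryTheory AlgebraicGeometry Limits TopologicalSpace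

namespace Groth.L04.EtalePurity

variable {S X Y : Scheme.{u}}

/-- the restriction to the preimage of `S₁` is étale when the base change to `S₁` is -/
lemma etale_ι_comp (S₁ : S.Opens) (G H : Over S) (f : G ⟶ H)
    [Etale ((Over.pullback S₁.ι).map f).left] : Etale ((G.hom ⁻¹ᵁ S₁).ι ≫ f.left) := by
  let π := pullback.fst G.hom S₁.ι
  have hfac : ((Over.pullback S₁.ι).map f).left ≫ pullback.fst H.hom S₁.ι = π ≫ f.left := pullback.lift_fst _ _ _
  have h1 : Etale (π ≫ f.left) := hfac ▸ (inferInstanceAs (Etale (((Over.pullback S₁.ι).map f).left ≫ pullback.fst H.hom S₁.ι)))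
  have hr : Set.range (G.hom ⁻¹ᵁ S₁).ι ⊆ Set.range π := by
    rw [Scheme.Opens.range_ι, IsOpenImmersion.range_pullbackFst, Scheme.Opens.opensRange_ι]
  rw [← IsOpenImmersion.lift_fac π _ hr, Category.assoc]
  haveI := h1
  haveI : IsOpenImmersion (IsOpenImmersion.lift π _ hr) := by
    haveI : IsOpenImmersion (IsOpenImmersion.lift π _ hr ≫ π) := by
      rw [IsOpenImmersion.lift_fac]; infer_instance
    exact IsOpenImmersion.of_comp _ π
  infer_instance

/-- purity -/
theorem etale [IsLocallyNoetherian S] (g : X ⟶ S) (h : Y ⟶ S) [Smooth g] [Smooth h] (f : X ⟶ Y) (hf : f ≫ h = g)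
    (S₁ : S.Opens) (hcodim : ∀ x : S, x ∉ S₁ → (2 : WithBot ℕ∞) ≤ ringKrullDim (S.presheaf.stalk x))
    [Etale ((g ⁻¹ᵁ S₁).ι ≫ f)] : Etale f := by
  rw [HasRingHomProperty.iff_exists_appLE (P := @Etale)
    (RingHom.Etale.stableUnderComposition.stableUnderCompositionWithLocalizationAway
      (fun S T _ _ _ r _ => by show RingHom.Etale _; rw [RingHom.etale_algebraMap]; exact Algebra.Etale.of_isLocalizationAway r)).left]
  intro x
  obtain ⟨W, hW, hxW, -⟩ := Opens.isBasis_iff_nbhd.mp S.isBasis_affineOpens (show g x ∈ (⊤ : S.Opens) from trivial)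
  obtain ⟨U, hU, hxU, hUW⟩ := Opens.isBasis_iff_nbhd.mp Y.isBasis_affineOpens
    (show f x ∈ h ⁻¹ᵁ W by show h (f x) ∈ W; rw [← Scheme.Hom.comp_apply, hf]; exact hxW)
  obtain ⟨V, hV, hxV, hVU⟩ := Opens.isBasis_iff_nbhd.mp X.isBasis_affineOpens (show x ∈ f ⁻¹ᵁ U from hxU)
  have hVW : V ≤ g ⁻¹ᵁ W := by
    rw [← hf, Scheme.Hom.comp_preimage]
    exact hVU.trans (Scheme.Hom.preimage_mono f hUW)
  replace hW : IsAffineOpen W := hW
  replace hU : IsAffineOpen U := hU
  replace hV : IsAffineOpen V := hV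
  refine ⟨⟨U, hU⟩, ⟨V, hV⟩, hxV, hVU, ?_⟩
  algebraize [(h.appLE W U hUW).hom, (f.appLE U V hVU).hom, (g.appLE W V hVW).hom]
  haveI : IsScalarTower Γ(S, W) Γ(Y, U) Γ(X, V) := IsScalarTower.of_algebraMap_eq' (by
    show (g.appLE W V hVW).hom = (f.appLE U V hVU).hom.comp (h.appLE W U hUW).hom
    rw [← CommRingCat.hom_comp, Scheme.Hom.appLE_comp_appLE]
    subst hf
    rfl)
  haveI : IsNoetherianRing Γ(S, W) := IsLocallyNoetherian.component_noetherian ⟨W, hW⟩
  haveI : Algebra.Smooth Γ(S, W) Γ(Y, U) := HasRingHomProperty.appLE @Smooth h inferInstance ⟨W, hW⟩ ⟨U, hU⟩ hUW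
  haveI : Algebra.Smooth Γ(S, W) Γ(X, V) := HasRingHomProperty.appLE @Smooth g inferInstance ⟨W, hW⟩ ⟨V, hV⟩ hVW
  haveI hfe : Algebra.FormallyEtale Γ(Y, U) Γ(X, V) := by
    refine formallyEtale (R := Γ(S, W)) fun P _ hP => ?_
    let y : X := hV.fromSpec ⟨P, inferInstance⟩
    have hy : y ∈ V := by
      have : y ∈ Set.range hV.fromSpec := ⟨_, rfl⟩
      rwa [hV.range_fromSpec] at this
    have hy1 : y ∈ g ⁻¹ᵁ S₁ := by
      by_contra hc
      have h2 := hcodim (g y) hc
      have e : g y = hW.fromSpec (PrimeSpectrum.comap (g.appLE W V hVW).hom ⟨P, inferInstance⟩) := by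
        show (hV.fromSpec ≫ g) _ = _
        rw [← hW.SpecMap_appLE_fromSpec g hV hVW]
        rfl
      rw [e] at h2
      have hm : hW.fromSpec (PrimeSpectrum.comap (g.appLE W V hVW).hom ⟨P, inferInstance⟩) ∈ W :=
        e ▸ hVW hy
      let q : PrimeSpectrum Γ(S, W) := PrimeSpectrum.comap (g.appLE W V hVW).hom ⟨P, inferInstance⟩
      have hqe : hW.primeIdealOf ⟨hW.fromSpec q, hm⟩ = q :=
        hW.fromSpec.isOpenEmbedding.injective (hW.fromSpec_primeIdealOf _)
      letI := S.presheaf.algebra_section_stalk ⟨hW.fromSpec q, hm⟩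
      haveI : IsLocalization.AtPrime (S.presheaf.stalk (hW.fromSpec q)) q.asIdeal := by
        have h := hW.isLocalization_stalk ⟨hW.fromSpec q, hm⟩
        rwa [hqe] at h
      replace h2 := h2.trans (IsLocalization.AtPrime.ringKrullDim_eq_height q.asIdeal (S.presheaf.stalk (hW.fromSpec q))).le
      exact absurd (le_trans h2 (WithBot.coe_le_coe.2 hP)) (by decide)
    obtain ⟨c, hc, hyc⟩ := hV.exists_basicOpen_le ⟨y, hy1⟩ hy
    let D := X.basicOpen c
    have hD : IsAffineOpen D := hV.basicOpen c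
    letI : Algebra Γ(X, V) Γ(X, D) := (X.presheaf.map (homOfLE (X.basicOpen_le c)).op).hom.toAlgebra
    haveI : IsLocalization.Away c Γ(X, D) := hV.isLocalization_basicOpen c
    letI : Algebra Γ(Y, U) Γ(X, D) := (f.appLE U D ((X.basicOpen_le c).trans hVU)).hom.toAlgebra
    haveI : IsScalarTower Γ(Y, U) Γ(X, V) Γ(X, D) := IsScalarTower.of_algebraMap_eq' (by
      show (f.appLE U D _).hom = (X.presheaf.map _).hom.comp (f.appLE U V hVU).hom
      rw [← CommRingCat.hom_comp, Scheme.Hom.appLE_map])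
    haveI hDe : Algebra.Etale Γ(Y, U) Γ(X, D) := by
      haveI : Etale (D.ι ≫ f) := by
        rw [← X.homOfLE_ι hc, Category.assoc]
        infer_instance
      have he : (⊤ : (D : Scheme).Opens) ≤ (D.ι ≫ f) ⁻¹ᵁ U := by
        rw [Scheme.Hom.comp_preimage]
        intro z _
        exact ((X.basicOpen_le c).trans hVU) z.2
      have hq : ((D.ι ≫ f).appLE U ⊤ he).hom.Etale :=
        haveI : IsAffine (D : Scheme) := hD
        HasRingHomProperty.appLE @Etale _ inferInstance ⟨U, hU⟩ ⟨⊤, isAffineOpen_top _⟩ he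
      have key : f.appLE U D ((X.basicOpen_le c).trans hVU) =
          (D.ι ≫ f).appLE U ⊤ he ≫ D.topIso.hom := by
        simp [Scheme.Hom.appLE]
        congr 1
        erw [← Functor.map_comp, ← Functor.map_comp]
        rfl
      have : (f.appLE U D ((X.basicOpen_le c).trans hVU)).hom.Etale := by
        rw [key, CommRingCat.hom_comp]
        exact RingHom.Etale.stableUnderComposition _ _ hq
          (RingHom.Etale.of_bijective (ConcreteCategory.bijective_of_isIso D.topIso.hom))
      exact this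
    haveI : Algebra.FormallyEtale Γ(Y, U) (Localization.Away c) :=
      Algebra.FormallyEtale.of_equiv
        ((IsLocalization.algEquiv (Submonoid.powers c) Γ(X, D) (Localization.Away c)).restrictScalars Γ(Y, U))
    have hsub := Algebra.basicOpen_subset_etaleLocus_iff.2 this
    refine Algebra.mem_etaleLocus_iff.1 (hsub (?_ : (⟨P, inferInstance⟩ : PrimeSpectrum Γ(X, V)) ∈ PrimeSpectrum.basicOpen c))
    rw [← hV.fromSpec_preimage_basicOpen]
    exact hyc
  haveI : Algebra.FinitePresentation Γ(Y, U) Γ(X, V) :=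
    Algebra.FinitePresentation.of_restrict_scalars_finitePresentation Γ(S, W) _ _
  exact { }

end Groth.L04.EtalePurity
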